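import Groth.Agent.H05EGA4.Ratliff
import Groth.Agent.S2321

/-!
# Factoriality descends from the completion
-/

set_option autoImplicit false
set_option linter.style.haveILetI false
set_option backward.isDefEq.respectTransparency false
universe u

open Groth.Agent

namespace Groth.Agent.H25UFD

/-- A ring with a faithfully flat local extension which is a factorial domain is a factorial domain. -/
theorem ufd_of_faithfullyFlat {A B : Type u} [CommRing A] [IsNoetherianRing A] [CommRing B] [IsLocalRing B]
    [Algebra A B] [Module.FaithfullyFlat A B] [IsDomain B] [UniqueFactorizationMonoid B] :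
    IsDomain A ∧ UniqueFactorizationMonoid A := by
  classical
  haveI : FaithfulSMul A B := inferInstance
  have hinj : Function.Injective (algebraMap A B) := FaithfulSMul.algebraMap_injective A B
  haveI hA : IsDomain A := hinj.isDomain _
  refine ⟨hA, ?_⟩
  letI : GCDMonoid B := UniqueFactorizationMonoid.toGCDMonoid B
  have hdvd : ∀ x y : A, algebraMap A B x ∣ algebraMap A B y → x ∣ y := fun x y h => by
    rw [← Ideal.mem_span_singleton] at h ⊢
    rw [← Ideal.comap_map_eq_self_of_faithfullyFlat (B := B) (Ideal.span {x}), Ideal.mem_comap, Ideal.map_span,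
      Set.image_singleton]
    exact h
  refine { irreducible_iff_prime := fun {p} => ⟨fun hp => ?_, fun hp => hp.irreducible⟩ }
  refine ⟨hp.ne_zero, hp.not_isUnit, fun b c hbc => ?_⟩
  have hp0 : algebraMap A B p ≠ 0 := fun h => hp.ne_zero (hinj (h.trans (map_zero _).symm))
  obtain ⟨d, b', hd, hb, hu⟩ : ∃ d b', algebraMap A B p = gcd (algebraMap A B p) (algebraMap A B b) * d ∧
      algebraMap A B b = gcd (algebraMap A B p) (algebraMap A B b) * b' ∧ IsUnit (gcd d b') :=
    extract_gcd _ _
  set g := gcd (algebraMap A B p) (algebraMap A B b)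
  have hg0 : g ≠ 0 := fun h => hp0 (by rw [hd, h, zero_mul])
  have hd0 : d ≠ 0 := fun h => hp0 (by rw [hd, h, mul_zero])
  obtain ⟨E, hE, hpE, hdE⟩ := H05EGA4.mem_map_colon_of_flat p (Ideal.span {b}) (Submodule.fg_span_singleton b) d
    (fun x hx => by
      obtain ⟨t, rfl⟩ := Ideal.mem_span_singleton'.1 hx
      rw [map_mul, Ideal.mem_span_singleton]
      exact ⟨algebraMap A B t * b', by rw [hd, hb]; ring⟩)
  have hle : ∀ r ∈ E, d ∣ algebraMap A B r := fun r hr => by
    have h1 := map_dvd (algebraMap A B) (Ideal.mem_span_singleton.1 (hE r hr b (Ideal.mem_span_singleton_self b)))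
    rw [map_mul, hd, hb, mul_left_comm, mul_dvd_mul_iff_left hg0] at h1
    exact (((gcd_isUnit_iff_isRelPrime.1 hu).dvd_of_dvd_mul_right h1))
  obtain ⟨e, he, hed⟩ : ∃ e ∈ E, algebraMap A B e ∣ d := by
    by_contra hne
    push Not at hne
    have : ∀ s ∈ E.map (algebraMap A B), ∃ t ∈ IsLocalRing.maximalIdeal B, s = d * t := by
      intro s hs
      induction hs using Submodule.span_induction with
      | mem x hx =>
        obtain ⟨r, hr, rfl⟩ := hx
        obtain ⟨t, ht⟩ := hle r hr
        refine ⟨t, ?_, ht⟩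
        intro hu'
        exact hne r hr (by rw [ht]; exact (associated_mul_unit_left d t hu').dvd)
      | zero => exact ⟨0, zero_mem _, (mul_zero d).symm⟩
      | add x y _ _ hx hy =>
        obtain ⟨t, ht, rfl⟩ := hx
        obtain ⟨t', ht', rfl⟩ := hy
        exact ⟨t + t', add_mem ht ht', (mul_add d t t').symm⟩
      | smul c x _ hx =>
        obtain ⟨t, ht, rfl⟩ := hx
        exact ⟨c * t, Ideal.mul_mem_left _ c ht, by rw [smul_eq_mul]; ring⟩
    obtain ⟨t, ht, h⟩ := this d hdE
    have h1 : (1 : B) = t := mul_left_cancel₀ hd0 (by rw [mul_one]; exact h)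
    exact ht (h1 ▸ isUnit_one)
  have hEe : ∀ r ∈ E, e ∣ r := fun r hr => hdvd e r (hed.trans (hle r hr))
  obtain ⟨f, hf⟩ := hEe p hpE
  rcases hp.isUnit_or_isUnit hf with h | h
  · left
    obtain ⟨u, rfl⟩ := h
    have h1 := Ideal.mem_span_singleton.1 (hE _ he b (Ideal.mem_span_singleton_self b))
    rwa [Units.dvd_mul_left] at h1
  · right
    obtain ⟨u, rfl⟩ := h
    have hpe : p ∣ e := by rw [hf, Units.mul_right_dvd]
    have h2 : algebraMap A B p ∣ algebraMap A B (b * c) := map_dvd _ hbc
    refine hpe.trans (hdvd e c (hed.trans ?_))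
    rw [map_mul, hd, hb, mul_assoc, mul_dvd_mul_iff_left hg0] at h2
    exact (gcd_isUnit_iff_isRelPrime.1 hu).dvd_of_dvd_mul_left h2

end Groth.Agent.H25UFD
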